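import Groth.Agent.S5014
import Mathlib

/-!
Etale slices of smooth algebras.
-/

set_option linter.style.haveILetI false

universe u

open TensorProduct IsLocalRing

namespace Groth.Agent.EtSlice

variable (A B : Type u) [CommRing A] [CommRing B] [Algebra A B] [Algebra.Smooth A B]
  (p : Ideal A) [p.IsPrime] (q : Ideal B) [q.IsPrime] [q.LiesOver p]
  [Algebra (Localization.AtPrime p) (Localization.AtPrime q)] [Localization.AtPrime.IsLiesOverAlgebra p q]
  [Algebra.IsSeparable p.ResidueField q.ResidueField]

include p in
theorem exists_coordinates : ∃ (n : ℕ) (g : Fin n → B), (∀ i, g i ∈ q) ∧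
    (LinearIndependent (Localization.AtPrime q)
      (fun i => KaehlerDifferential.D A (Localization.AtPrime q) (algebraMap B (Localization.AtPrime q) (g i)))) ∧
    Submodule.span (Localization.AtPrime q)
      (Set.range fun i => KaehlerDifferential.D A (Localization.AtPrime q) (algebraMap B (Localization.AtPrime q) (g i))) = ⊤ := by
  classical
  let T := Localization.AtPrime q
  let κ := q.ResidueField
  haveI : Algebra.FormallyEtale B T := Algebra.FormallyEtale.of_isLocalization q.primeCompl
  haveI : Algebra.FormallySmooth A T := Algebra.FormallySmooth.comp A B T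
  haveI : Algebra.EssFiniteType A T := Algebra.EssFiniteType.comp A B T
  haveI : Algebra.FormallyUnramified A (Localization.AtPrime p) := Algebra.FormallyUnramified.of_isLocalization p.primeCompl
  haveI : Algebra.FormallyUnramified A p.ResidueField := Algebra.FormallyUnramified.comp A (Localization.AtPrime p) p.ResidueField
  haveI : Algebra.FormallyEtale p.ResidueField κ := Algebra.FormallyEtale.of_isSeparable _ _
  haveI : Algebra.FormallyUnramified A κ := Algebra.FormallyUnramified.comp A p.ResidueField κ
  let W : Set (κ ⊗[T] Ω[T⁄A]) := (fun a : B => 1 ⊗ₜ[T] KaehlerDifferential.D A T (algebraMap B T a)) '' (q : Set B)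
  have hmem : ∀ z : T, z ∈ maximalIdeal T → (1 : κ) ⊗ₜ[T] KaehlerDifferential.D A T z ∈ Submodule.span κ W := by
    intro z hz
    obtain ⟨a, s, rfl⟩ := IsLocalization.exists_mk'_eq q.primeCompl z
    have ha : a ∈ q := (IsLocalization.AtPrime.mk'_mem_maximal_iff T q a s).1 hz
    have h0 : (residue T) (IsLocalization.mk' T a s) = 0 := (residue_eq_zero_iff _).2 hz
    have h1 : algebraMap T κ (algebraMap B T s) ≠ 0 := fun h => by
      have := (residue_eq_zero_iff _).1 h
      exact this (IsLocalization.map_units T s)
    have h2 : (1 : κ) ⊗ₜ[T] KaehlerDifferential.D A T (algebraMap B T a) =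
        algebraMap T κ (algebraMap B T s) • ((1 : κ) ⊗ₜ[T] KaehlerDifferential.D A T (IsLocalization.mk' T a s)) := by
      rw [← IsLocalization.mk'_spec T a s, Derivation.leibniz, TensorProduct.tmul_add, TensorProduct.tmul_smul,
        TensorProduct.tmul_smul, ← algebraMap_smul κ (IsLocalization.mk' T a s),
        show algebraMap T κ (IsLocalization.mk' T a s) = 0 from h0, zero_smul, zero_add, ← algebraMap_smul κ]
    rw [← inv_smul_smul₀ h1 ((1 : κ) ⊗ₜ[T] KaehlerDifferential.D A T (IsLocalization.mk' T a s)), ← h2]
    exact Submodule.smul_mem _ _ (Submodule.subset_span ⟨a, ha, rfl⟩)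
  have hW : Submodule.span κ W = ⊤ := by
    rw [eq_top_iff]
    intro v _
    have hv : v ∈ LinearMap.range (KaehlerDifferential.kerCotangentToTensor A T κ) := by
      have := (KaehlerDifferential.exact_kerCotangentToTensor_mapBaseChange A T κ residue_surjective v).1
        (Subsingleton.elim _ _)
      exact this
    obtain ⟨c, rfl⟩ := hv
    obtain ⟨⟨z, hz⟩, rfl⟩ := Ideal.toCotangent_surjective _ c
    rw [KaehlerDifferential.kerCotangentToTensor_toCotangent]
    exact hmem z ((residue_eq_zero_iff z).1 hz)
  obtain ⟨v, hv, hvs, hvi⟩ := Submodule.exists_fun_fin_finrank_span_eq κ W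
  choose g hgq hg using hv
  refine ⟨_, g, hgq, ?_⟩
  have hf : (TensorProduct.mk T κ Ω[T⁄A] 1) ∘ (fun i => KaehlerDifferential.D A T (algebraMap B T (g i))) = v :=
    funext hg
  haveI : Module.Flat T Ω[T⁄A] := inferInstance
  refine ⟨?_, ?_⟩
  · refine (linearIndependent_equiv Equiv.ulift.{u}).1 ?_
    refine Module.IsLocalRing.linearIndependent_of_flat _ ?_
    rw [← Function.comp_assoc, hf]
    exact (linearIndependent_equiv Equiv.ulift.{u}).2 hvi
  · let b : Module.Basis _ κ (κ ⊗[T] Ω[T⁄A]) := Module.Basis.mk hvi (by rw [hvs, hW])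
    refine IsLocalRing.span_eq_top_of_tmul_eq_basis _ b fun i => ?_
    rw [Module.Basis.mk_apply]
    exact hg i

include p in
theorem exists_etale_slice : ∃ f ∉ q, ∃ (C : Type u) (_ : CommRing C) (_ : Algebra A C)
    (φ : Localization.Away f →ₐ[A] C), Function.Surjective φ ∧ Algebra.Etale A C ∧
      ∃ Q : Ideal C, Q.IsPrime ∧ (Q.comap φ).comap (algebraMap B (Localization.Away f)) = q := by
  obtain ⟨n, g, hgq, hli, hsp⟩ := exists_coordinates A B p q
  let P := MvPolynomial (Fin n) A
  letI : Algebra P B := (MvPolynomial.aeval g).toRingHom.toAlgebra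
  haveI : IsScalarTower A P B := IsScalarTower.of_algebraMap_eq fun a => ((MvPolynomial.aeval g).commutes a).symm
  have hX : ∀ i, algebraMap (MvPolynomial (Fin n) A) B (MvPolynomial.X i) = g i := fun i => MvPolynomial.aeval_X g i
  haveI : Algebra.IsEtaleAt P q := (S5014.result A B n q).2 ⟨by simpa only [hX] using hli, by simpa only [hX] using hsp⟩
  haveI : Algebra.FinitePresentation P B := Algebra.FinitePresentation.of_restrict_scalars_finitePresentation A P B
  obtain ⟨f, hf, het⟩ := Algebra.exists_etale_of_isEtaleAt (R := P) q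
  letI algP : Algebra P A := (MvPolynomial.aeval (fun _ => (0 : A)) : P →ₐ[A] A).toRingHom.toAlgebra
  haveI : IsScalarTower A P A := IsScalarTower.of_algebraMap_eq fun a => (MvPolynomial.aeval_C _ a).symm
  let L := Localization.Away f
  refine ⟨f, hf, A ⊗[P] L, inferInstance, inferInstance, ?_⟩
  let φ : L →ₐ[A] A ⊗[P] L :=
    { (Algebra.TensorProduct.includeRight : L →ₐ[P] A ⊗[P] L).toRingHom with
      commutes' := fun a => by
        show (1 : A) ⊗ₜ[P] algebraMap A L a = algebraMap A (A ⊗[P] L) a
        rw [IsScalarTower.algebraMap_apply A P L, Algebra.TensorProduct.algebraMap_apply,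
          Algebra.algebraMap_eq_smul_one (A := L), ← TensorProduct.smul_tmul, Algebra.smul_def, mul_one,
          ← IsScalarTower.algebraMap_apply A P A] }
  refine ⟨φ, fun z => ?_, inferInstance, ?_⟩
  · induction z using TensorProduct.induction_on with
    | zero => exact ⟨0, map_zero _⟩
    | add x y hx hy => obtain ⟨a, rfl⟩ := hx; obtain ⟨b, rfl⟩ := hy; exact ⟨a + b, map_add _ _ _⟩
    | tmul a l =>
      refine ⟨algebraMap A L a * l, ?_⟩
      show (1 : A) ⊗ₜ[P] (algebraMap A L a * l) = a ⊗ₜ[P] l
      rw [IsScalarTower.algebraMap_apply A P L, ← Algebra.smul_def, ← TensorProduct.smul_tmul, Algebra.smul_def,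
        mul_one, ← IsScalarTower.algebraMap_apply A P A]
      rfl
  · let κ := q.ResidueField
    let l : L →+* κ := IsLocalization.Away.lift f (g := algebraMap B κ)
      (isUnit_iff_ne_zero.2 fun h0 => hf (Ideal.algebraMap_residueField_eq_zero.1 h0))
    letI : Algebra P κ := ((algebraMap B κ).comp (algebraMap P B)).toAlgebra
    let lP : L →ₐ[P] κ := { l with
      commutes' := fun z => by
        show l (algebraMap P L z) = _
        rw [IsScalarTower.algebraMap_apply P B L]
        exact IsLocalization.Away.lift_eq _ _ _ }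
    let aP : A →ₐ[P] κ := { (algebraMap A κ) with
      commutes' := fun z => by
        show algebraMap A κ (MvPolynomial.aeval (fun _ => (0 : A)) z) = algebraMap B κ (MvPolynomial.aeval g z)
        induction z using MvPolynomial.induction_on with
        | C a => rw [MvPolynomial.aeval_C, MvPolynomial.aeval_C, Algebra.algebraMap_self, RingHom.id_apply,
            ← IsScalarTower.algebraMap_apply A B κ]
        | add x y hx hy => rw [map_add, map_add, hx, hy, map_add, map_add]
        | mul_X x i hx =>
          rw [map_mul, map_mul, map_mul (MvPolynomial.aeval g), map_mul, MvPolynomial.aeval_X, MvPolynomial.aeval_X,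
            map_zero, mul_zero, Ideal.algebraMap_residueField_eq_zero.2 (hgq i), mul_zero] }
    let Φ : A ⊗[P] L →ₐ[P] κ := Algebra.TensorProduct.productMap aP lP
    refine ⟨RingHom.ker Φ.toRingHom, RingHom.ker_isPrime _, ?_⟩
    ext b
    simp only [Ideal.mem_comap, RingHom.mem_ker]
    show Φ ((1 : A) ⊗ₜ[P] algebraMap B L b) = 0 ↔ b ∈ q
    rw [Algebra.TensorProduct.productMap_apply_tmul, map_one, one_mul]
    show l (algebraMap B L b) = 0 ↔ _
    rw [show l (algebraMap B L b) = algebraMap B κ b from IsLocalization.Away.lift_eq _ _ _]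
    exact Ideal.algebraMap_residueField_eq_zero

end Groth.Agent.EtSlice
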